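import Groth.Prelude.Def_Curv2
import Mathlib.RingTheory.Length
import Mathlib.RingTheory.SimpleModule.Basic

/-! A local ring with `δ = 1` splits its maximal ideal along any idempotent of its fraction ring. -/

set_option autoImplicit false
universe u

open scoped nonZeroDivisors

namespace Groth.Agent.NodeSplit

theorem exists_split_of_deltaInv_one {R : Type u} [CommRing R] [IsLocalRing R] (h : Curv2.deltaInv R = 1)
    {a b : R} (hab : a * b = 0) (hd : a + b ∈ R⁰) {s : R} (hs : s ∈ IsLocalRing.maximalIdeal R) :
    ∃ t : R, t ∈ IsLocalRing.maximalIdeal R ∧ t * a = s * a ∧ t * b = 0 := by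
  let F := FractionRing R
  let φ := algebraMap R F
  let ε : F := IsLocalization.mk' F a (⟨a + b, hd⟩ : R⁰)
  have hε : ε * φ (a + b) = φ a := IsLocalization.mk'_spec F a ⟨a + b, hd⟩
  have hu : IsUnit (φ (a + b)) := IsLocalization.map_units F (⟨a + b, hd⟩ : R⁰)
  have hε2 : ε * ε = ε := by
    refine (hu.pow 2).mul_left_injective ?_
    have h1 : φ a * φ b = 0 := by rw [← map_mul, hab, map_zero]
    calc ε * ε * φ (a + b) ^ 2 = (ε * φ (a + b)) ^ 2 := by ring
      _ = φ a * φ a := by rw [hε]; ring
      _ = φ a * φ (a + b) := by rw [map_add, mul_add, h1, add_zero]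
      _ = ε * φ (a + b) ^ 2 := by rw [← hε]; ring
  have hint : IsIntegral R ε := ⟨Polynomial.X ^ 2 - Polynomial.X,
    Polynomial.monic_X_pow_sub (by simp [Polynomial.degree_X]), by
      simp [pow_two, hε2]⟩
  let e : integralClosure R F := ⟨ε, hint⟩
  let N := LinearMap.range (Algebra.linearMap R ↥(integralClosure R F))
  have hsimple : IsSimpleModule R (↥(integralClosure R F) ⧸ N) := Module.length_eq_one_iff.1 h
  have hann : s ∈ Module.annihilator R (↥(integralClosure R F) ⧸ N) := by
    haveI := hsimple
    rw [IsLocalRing.eq_maximalIdeal IsSimpleModule.annihilator_isMaximal]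
    exact hs
  have h0 : Submodule.Quotient.mk (p := N) (s • e) = 0 := by
    rw [Submodule.Quotient.mk_smul]
    exact Module.mem_annihilator.1 hann _
  obtain ⟨t, ht⟩ := (Submodule.Quotient.mk_eq_zero N).1 h0
  have ht' : φ t = φ s * ε := by
    have := congrArg Subtype.val ht
    rw [Subalgebra.coe_smul] at this
    exact this.trans (Algebra.smul_def s ε)
  have htd : t * (a + b) = s * a := IsFractionRing.injective R F (by
    show φ (t * (a + b)) = φ (s * a)
    rw [map_mul, ht', mul_assoc, hε, map_mul])
  have hta : t * a = s * a := by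
    refine (mul_cancel_right_mem_nonZeroDivisors hd).1 ?_
    rw [mul_assoc, mul_comm a (a + b), ← mul_assoc, htd, mul_assoc, mul_assoc, mul_add, hab, add_zero]
  have htb : t * b = 0 := by
    rw [mul_add, hta] at htd
    simpa using htd
  refine ⟨t, ?_, hta, htb⟩
  by_contra htm
  have hb0 : b = 0 := (IsLocalRing.notMem_maximalIdeal.1 htm).mul_right_eq_zero.1 htb
  rw [hb0, add_zero] at hd
  exact htm ((mul_cancel_right_mem_nonZeroDivisors hd).1 hta ▸ hs)

end Groth.Agent.NodeSplit
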