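import Groth.Agent.NodeSplit.Alg
import Groth.Agent.DeltaNorm.NodalCount
import Groth.Agent.Unibranch.ComponentDim
import Groth.Agent.InvGen.Basic
import Groth.Agent.QC.IdealMod
import Groth.Agent.TopDegRep.Basic
import Groth.Agent.CurveRR.Euler
import Groth.Agent.WeakAssLib.Basic

/-! The ideal of a separating node decomposes. -/

set_option autoImplicit false
set_option backward.isDefEq.respectTransparency false
set_option backward.isDefEq.respectTransparency.types false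
set_option maxHeartbeats 2000000
universe u

open CategoryTheory CategoryTheory.Limits AlgebraicGeometry TopologicalSpace Opposite
open Groth.Agent.QC (res resO res_res res_smul)
open scoped nonZeroDivisors

namespace Groth.Agent.NodeSplit

open Groth.Agent

variable {X : Scheme.{u}}

theorem germ_resO {V W : X.Opens} (h : V ≤ W) (y : X) (hy : y ∈ V) (c : Γ(X, W)) :
    X.presheaf.germ V y hy (resO X h c) = X.presheaf.germ W y (h hy) c :=
  X.presheaf.germ_res_apply (homOfLE h) y hy c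

/-- reduced: sections vanishing at the maximal points vanish -/
theorem eq_zero_of_maxPt [AlgebraicGeometry.IsReduced X] {W : X.Opens} (r : Γ(X, W))
    (h : ∀ η (hη : η ∈ W), Unibranch.IsMaxPt η → X.presheaf.germ W η hη r = 0) : r = 0 := by
  refine (basicOpen_eq_bot_iff r).1 (le_bot_iff.1 fun y hy => ?_)
  obtain ⟨η, hη, hηy⟩ := Unibranch.exists_isMaxPt_specializes y
  have hηr : η ∈ X.basicOpen r := hηy.mem_open (X.basicOpen r).2 hy
  have h1 := (X.mem_basicOpen r η (X.basicOpen_le r hηr)).1 hηr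
  rw [h η _ hη] at h1
  exact (not_isUnit_zero h1).elim

theorem finite_maxPt [NoetherianSpace X] : {m : X | Unibranch.IsMaxPt m}.Finite := by
  refine Set.Finite.of_finite_image (f := fun m => closure ({m} : Set X))
    ((NoetherianSpace.finite_irreducibleComponents (α := X)).subset ?_) fun a _ b _ h => Unibranch.eq_of_closure_eq h
  rintro _ ⟨m, hm, rfl⟩
  exact hm.mem_irreducibleComponents

/-- on a space of dimension at most one a specialisation to a closed point starts at a maximal point -/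
theorem isMaxPt_of_specializes (hdim : topologicalKrullDim X ≤ 1) {P z : X} (h : z ⤳ P) (hne : z ≠ P) :
    Unibranch.IsMaxPt z := by
  intro η hη
  by_contra hne'
  have hlt : ∀ a b : X, a ⤳ b → a ≠ b → closure ({b} : Set X) ⊂ closure {a} := fun a b hab hne'' =>
    ⟨closure_minimal (Set.singleton_subset_iff.2 hab.mem_closure) isClosed_closure,
      fun hsub => hne'' (Unibranch.eq_of_closure_eq (Set.Subset.antisymm hsub
        (closure_minimal (Set.singleton_subset_iff.2 hab.mem_closure) isClosed_closure)))⟩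
  let s : LTSeries (IrreducibleCloseds X) :=
    { length := 2
      toFun := ![⟨closure {P}, isIrreducible_singleton.closure, isClosed_closure⟩,
        ⟨closure {z}, isIrreducible_singleton.closure, isClosed_closure⟩,
        ⟨closure {η}, isIrreducible_singleton.closure, isClosed_closure⟩]
      step := fun i => by
        fin_cases i
        · exact hlt z P h hne
        · exact hlt η z hη hne' }
  have h2 : ((2 : ℕ) : WithBot ℕ∞) ≤ topologicalKrullDim X := Order.LTSeries.length_le_krullDim s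
  exact absurd (h2.trans hdim) (by norm_num)

theorem ι_app_eq_zero_iff (O W : X.Opens) (t : Γ(X, W)) :
    O.ι.app W t = 0 ↔ resO X (inf_le_left : W ⊓ O ≤ W) t = 0 := by
  have key : ∀ (V : X.Opens) (hV : V ≤ W), V = W ⊓ O →
      ((X.presheaf.map (homOfLE hV).op) t = 0 ↔ resO X (inf_le_left : W ⊓ O ≤ W) t = 0) := by
    rintro V hV rfl; rfl
  refine key _ _ ?_
  show O.ι ''ᵁ O.ι ⁻¹ᵁ W = W ⊓ O
  rw [Scheme.Hom.image_preimage_eq_opensRange_inf, Scheme.Opens.opensRange_ι, inf_comm]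

/-- sections of the kernel of `m → j_* O_O` -/
theorem mem_range_kerRestr (I : X.IdealSheafData) (O W : X.Opens) (s : Γ(ClSub.idealMod I, W)) :
    s ∈ Set.range ((kernel.ι (ClSub.idealModι I ≫ ClSub.unitToPush O.ι)).app W) ↔
      resO X (inf_le_left : W ⊓ O ≤ W) ((ClSub.idealModι I).app W s) = 0 := by
  rw [QC.mem_range_kernel_app, ← ι_app_eq_zero_iff]
  rfl

/-- prime avoidance between finitely many maximal points of an affine open -/
theorem exists_separating {U : X.Opens} (hU : IsAffineOpen U) (M : Finset X) (hmax : ∀ m ∈ M, Unibranch.IsMaxPt m)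
    (hMU : ∀ m ∈ M, m ∈ U) (O : X.Opens) :
    ∃ a : Γ(X, U), ∀ m ∈ M, (m ∈ X.basicOpen a ↔ m ∈ O) := by
  classical
  let pr : X → Ideal Γ(X, U) := fun m => if h : m ∈ U then (hU.primeIdealOf ⟨m, h⟩).asIdeal else ⊤
  have hpr : ∀ m (h : m ∈ U), pr m = (hU.primeIdealOf ⟨m, h⟩).asIdeal := fun m h => dif_pos h
  let I : Ideal Γ(X, U) := (M.filter fun m => m ∉ O).inf pr
  have hnot : ∀ m ∈ M, m ∈ O → ¬ I ≤ pr m := by
    intro m hm hmO hle
    have hp : (pr m).IsPrime := by rw [hpr m (hMU m hm)]; exact (hU.primeIdealOf ⟨m, hMU m hm⟩).2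
    obtain ⟨n, hn, hnm⟩ := (Ideal.IsPrime.inf_le' hp).1 hle
    obtain ⟨hnM, hnO⟩ := Finset.mem_filter.1 hn
    rw [hpr m (hMU m hm), hpr n (hMU n hnM)] at hnm
    have h1 : (hU.primeIdealOf ⟨n, hMU n hnM⟩) ⤳ (hU.primeIdealOf ⟨m, hMU m hm⟩) :=
      (PrimeSpectrum.le_iff_specializes _ _).1 hnm
    have h2 := h1.map hU.fromSpec.continuous
    rw [hU.fromSpec_primeIdealOf, hU.fromSpec_primeIdealOf] at h2
    exact hnO ((hmax m hm n h2).symm ▸ hmO)
  have hav : ¬ (I : Set Γ(X, U)) ⊆ ⋃ m ∈ (↑(M.filter fun m => m ∈ O) : Set X), (pr m : Set Γ(X, U)) := by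
    intro hsub
    obtain ⟨m₀, hm₀, -⟩ := Set.mem_iUnion₂.1 (hsub I.zero_mem)
    obtain ⟨m, hm, hle⟩ := (Ideal.subset_union_prime m₀ m₀ (fun m hm _ _ => by
      rw [hpr m (hMU m (Finset.mem_filter.1 hm).1)]
      exact (hU.primeIdealOf ⟨m, _⟩).2)).1 hsub
    exact hnot m (Finset.mem_filter.1 hm).1 (Finset.mem_filter.1 hm).2 hle
  obtain ⟨a, haI, hau⟩ := Set.not_subset.1 hav
  refine ⟨a, fun m hm => ?_⟩
  rw [WeakAssLib.mem_primeIdealOf hU (hMU m hm) a, ← hpr m (hMU m hm)]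
  refine ⟨fun hna => by_contra fun hO => hna ((Finset.inf_le (Finset.mem_filter.2 ⟨hm, hO⟩) : I ≤ pr m) haI),
    fun hO hmem => hau (Set.mem_iUnion₂.2 ⟨m, Finset.mem_filter.2 ⟨hm, hO⟩, hmem⟩)⟩

section Local

variable [AlgebraicGeometry.IsReduced X] [NoetherianSpace X]

/-- **Local splitting at the node.** -/
theorem exists_split (hdim : topologicalKrullDim X ≤ 1) {P : X} (hPc : IsClosed ({P} : Set X)) (hmax : ¬ Unibranch.IsMaxPt P)
    (hδ : Curv2.deltaInv (X.presheaf.stalk P) = 1)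
    (A B : X.Opens) (hAB : ∀ y : X, y ∈ A → y ∈ B → False) (hPA : P ∉ A) (hPB : P ∉ B) (hcov : ∀ y : X, y ≠ P → y ∈ A ∨ y ∈ B)
    {W : X.Opens} (hPW : P ∈ W) (s : Γ(X, W)) (hs : X.presheaf.germ W P hPW s ∈ IsLocalRing.maximalIdeal _) :
    ∃ (V : X.Opens) (hV : V ≤ W) (hPV : P ∈ V) (t : Γ(X, V)),
      X.presheaf.germ V P hPV t ∈ IsLocalRing.maximalIdeal _ ∧
      resO X (inf_le_left : V ⊓ B ≤ V) t = 0 ∧
      resO X (inf_le_left : V ⊓ A ≤ V) (resO X hV s - t) = 0 := by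
  classical
  obtain ⟨U, hU, hPU, hUW⟩ := exists_isAffineOpen_mem_and_subset (U := W) (x := P) hPW
  have hfin : {m : X | Unibranch.IsMaxPt m ∧ m ⤳ P}.Finite := finite_maxPt.subset fun m hm => hm.1
  have hmU : ∀ m : X, m ⤳ P → m ∈ U := fun m hm => hm.mem_open U.2 hPU
  have hmne : ∀ m : X, Unibranch.IsMaxPt m → m ≠ P := fun m hm h => hmax (h ▸ hm)
  -- elements separating the two sides
  have hsep := fun O : X.Opens => exists_separating hU hfin.toFinset
    (fun m hm => (hfin.mem_toFinset.1 hm).1) (fun m hm => hmU m (hfin.mem_toFinset.1 hm).2) O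
  obtain ⟨a, ha'⟩ := hsep A
  obtain ⟨b, hb'⟩ := hsep B
  have ha : ∀ η, η ⤳ P → Unibranch.IsMaxPt η → (η ∈ X.basicOpen a ↔ η ∈ A) := fun η h h' =>
    ha' η (hfin.mem_toFinset.2 ⟨h', h⟩)
  have hb : ∀ η, η ⤳ P → Unibranch.IsMaxPt η → (η ∈ X.basicOpen b ↔ η ∈ B) := fun η h h' =>
    hb' η (hfin.mem_toFinset.2 ⟨h', h⟩)
  have hab : ∀ η, η ⤳ P → Unibranch.IsMaxPt η → (η ∈ X.basicOpen a ↔ η ∉ X.basicOpen b) := fun η hη hm => by
    rw [ha η hη hm, hb η hη hm]
    exact ⟨fun h h' => hAB η h h', fun h => (hcov η (hmne η hm)).resolve_right h⟩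
  -- shrink: every maximal point of the neighbourhood specialises to `P`
  let Z : Set X := ⋃ m ∈ {m : X | Unibranch.IsMaxPt m ∧ ¬ m ⤳ P}, closure {m}
  have hZc : IsClosed Z := (finite_maxPt.subset fun m hm => hm.1).isClosed_biUnion fun m _ => isClosed_closure
  let U₁ : X.Opens := U ⊓ ⟨Zᶜ, hZc.isOpen_compl⟩
  have hPU₁ : P ∈ U₁ := ⟨hPU, fun h => by
    obtain ⟨m, hm, hmP⟩ := Set.mem_iUnion₂.1 h
    exact hm.2 (specializes_iff_mem_closure.2 hmP)⟩
  have hU₁ : ∀ η ∈ U₁, Unibranch.IsMaxPt η → η ⤳ P := fun η hη hm => by_contra fun h =>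
    hη.2 (Set.mem_iUnion₂.2 ⟨η, ⟨hm, h⟩, subset_closure rfl⟩)
  let r : U₁ ≤ U := inf_le_left
  have hzero : ∀ η (hη : η ∈ U₁), Unibranch.IsMaxPt η → ∀ c : Γ(X, U), η ∉ X.basicOpen c →
      X.presheaf.germ U η hη.1 c = 0 := fun η hη hm c hc => by
    have hf : IsField (X.presheaf.stalk η) := by
      haveI : Ring.KrullDimLE 0 (X.presheaf.stalk η) := by
        rw [Ring.krullDimLE_iff, ringKrullDim_stalk_eq_coheight, Order.coheight_eq_zero.2 ?_]
        · rfl
        · intro z hz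
          rw [hm z hz]
      exact Ring.KrullDimLE.isField_of_isReduced
    letI := hf.toField
    by_contra hne
    exact hc ((X.mem_basicOpen c η hη.1).2 (isUnit_iff_ne_zero.2 hne))
  have hab0 : resO X r (a * b) = 0 := eq_zero_of_maxPt _ fun η hη hm => by
    rw [X.presheaf.germ_res_apply, map_mul]
    by_cases hA : η ∈ X.basicOpen a
    · rw [hzero η hη hm b ((hab η (hU₁ η hη hm) hm).1 hA), mul_zero]
    · rw [hzero η hη hm a hA, zero_mul]
  have hd : X.presheaf.germ U P hPU (a + b) ∈ (X.presheaf.stalk P)⁰ := by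
    rw [mem_nonZeroDivisors_iff_right]
    intro z hz
    obtain ⟨V₀, hPV₀, z₀, rfl⟩ := X.presheaf.exists_germ_eq z
    have hz' : X.presheaf.germ (U₁ ⊓ V₀) P ⟨hPU₁, hPV₀⟩
        (resO X (inf_le_right : U₁ ⊓ V₀ ≤ V₀) z₀ * resO X (inf_le_left.trans r : U₁ ⊓ V₀ ≤ U) (a + b)) =
        X.presheaf.germ (U₁ ⊓ V₀) P ⟨hPU₁, hPV₀⟩ 0 := by
      rw [map_mul, map_zero, X.presheaf.germ_res_apply, X.presheaf.germ_res_apply]
      exact hz
    obtain ⟨V₁, hPV₁, i₁, i₂, he⟩ := X.presheaf.germ_eq P _ _ _ _ hz'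
    have hz0 : resO X (i₁.le.trans inf_le_right : V₁ ≤ V₀) z₀ = 0 := eq_zero_of_maxPt _ fun η hη hm => by
      rw [X.presheaf.germ_res_apply]
      have h1 := congrArg (X.presheaf.germ V₁ η hη) he
      rw [X.presheaf.germ_res_apply, map_mul, X.presheaf.germ_res_apply, X.presheaf.germ_res_apply, map_zero,
        map_zero] at h1
      have hηU₁ : η ∈ U₁ := (i₁.le hη).1
      have hu : IsUnit (X.presheaf.germ U η hηU₁.1 (a + b)) := by
        by_cases hA : η ∈ X.basicOpen a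
        · rw [map_add, hzero η hηU₁ hm b ((hab η (hU₁ η hηU₁ hm) hm).1 hA), add_zero]
          exact (X.mem_basicOpen a η hηU₁.1).1 hA
        · rw [map_add, hzero η hηU₁ hm a hA, zero_add]
          exact (X.mem_basicOpen b η hηU₁.1).1 (by
            by_contra hB
            exact hA ((hab η (hU₁ η hηU₁ hm) hm).2 hB))
      exact hu.mul_left_eq_zero.1 h1
    rw [← X.presheaf.germ_res_apply (homOfLE (i₁.le.trans inf_le_right : V₁ ≤ V₀)) P hPV₁ z₀]
    exact (congrArg _ hz0).trans (map_zero _)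
  -- remove the other zeros of `a + b`
  let C : Set X := closure ((U : Set X) \ X.basicOpen (a + b))
  obtain ⟨T, hTf, hTc, hTi, hCT⟩ := NoetherianSpace.exists_finite_set_isClosed_irreducible (isClosed_closure (s := (U : Set X) \ X.basicOpen (a + b)))
  let C' : Set X := ⋃ Z' ∈ {Z' ∈ T | P ∉ Z'}, Z'
  have hC'c : IsClosed C' := (hTf.subset fun Z' h => h.1).isClosed_biUnion fun Z' h => hTc Z' h.1
  let U₂ : X.Opens := U₁ ⊓ ⟨C'ᶜ, hC'c.isOpen_compl⟩
  have hPU₂ : P ∈ U₂ := ⟨hPU₁, fun h => by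
    obtain ⟨Z', hZ', hPZ'⟩ := Set.mem_iUnion₂.1 h
    exact hZ'.2 hPZ'⟩
  have hunit : ∀ y (hy : y ∈ U₂), y ≠ P → y ∈ X.basicOpen (a + b) := by
    intro y hy hne
    by_contra hyd
    obtain ⟨Z', hZ', hyZ'⟩ := Set.mem_sUnion.1 (hCT.le (subset_closure (s := (U : Set X) \ _) ⟨hy.1.1, hyd⟩))
    have hPZ' : P ∈ Z' := by_contra fun h => hy.2 (Set.mem_iUnion₂.2 ⟨Z', ⟨hZ', h⟩, hyZ'⟩)
    obtain ⟨ζ, hζ⟩ := QuasiSober.sober (hTi Z' hZ') (hTc Z' hZ')
    have hζP : ζ ⤳ P := hζ.specializes hPZ'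
    have hζy : ζ ⤳ y := hζ.specializes hyZ'
    have hζne : ζ ≠ P := fun h => by
      subst h
      exact hne (hPc.closure_eq.le hζy.mem_closure)
    have hζmax := isMaxPt_of_specializes hdim hζP hζne
    have hζU₂ : ζ ∈ U₂ := hζy.mem_open U₂.2 hy
    have hζC : ζ ∈ closure ((U : Set X) \ X.basicOpen (a + b)) := hCT.ge ⟨Z', hZ', hζ.mem⟩
    have hζd : ζ ∈ X.basicOpen (a + b) := by
      rw [X.mem_basicOpen (a + b) ζ (hmU ζ hζP), map_add]
      by_cases hA : ζ ∈ X.basicOpen a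
      · rw [hzero ζ hζU₂.1 hζmax b ((hab ζ hζP hζmax).1 hA), add_zero]
        exact (X.mem_basicOpen a ζ _).1 hA
      · rw [hzero ζ hζU₂.1 hζmax a hA, zero_add]
        exact (X.mem_basicOpen b ζ _).1 (by_contra fun hB => hA ((hab ζ hζP hζmax).2 hB))
    obtain ⟨w, hw1, hw2⟩ := mem_closure_iff.1 hζC _ (X.basicOpen (a + b)).2 hζd
    exact hw2.2 hw1
  obtain ⟨τ, hτm, hτa, hτb⟩ := exists_split_of_deltaInv_one hδ
    (a := X.presheaf.germ U P hPU a) (b := X.presheaf.germ U P hPU b)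
    (by
      rw [← map_mul, ← X.presheaf.germ_res_apply (homOfLE r) P hPU₁ (a * b)]
      exact (congrArg _ hab0).trans (map_zero _))
    (by rw [← map_add]; exact hd) hs
  obtain ⟨V₀, hPV₀, t₀, rfl⟩ := X.presheaf.exists_germ_eq τ
  have h3U : (U₂ ⊓ V₀) ≤ U := inf_le_left.trans (inf_le_left.trans r)
  obtain ⟨V₄, hPV₄, i₄, j₄, he₄⟩ := X.presheaf.germ_eq P (⟨hPU₂, hPV₀⟩ : P ∈ (U₂ ⊓ V₀)) (⟨hPU₂, hPV₀⟩ : P ∈ (U₂ ⊓ V₀))
    (resO X (inf_le_right : (U₂ ⊓ V₀) ≤ V₀) t₀ * resO X h3U a) (resO X (h3U.trans hUW) s * resO X h3U a)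
    (by simp only [map_mul, X.presheaf.germ_res_apply, germ_resO]; exact hτa)
  obtain ⟨V₅, hPV₅, i₅, j₅, he₅⟩ := X.presheaf.germ_eq P hPV₄ hPV₄
    (resO X i₄.le (resO X (inf_le_right : (U₂ ⊓ V₀) ≤ V₀) t₀ * resO X h3U b)) 0
    (by simp only [map_mul, X.presheaf.germ_res_apply, germ_resO, map_zero]; exact hτb)
  have h53 : V₅ ≤ (U₂ ⊓ V₀) := i₅.le.trans i₄.le
  refine ⟨V₅, h53.trans (h3U.trans hUW), hPV₅, resO X (h53.trans inf_le_right) t₀, ?_, ?_, ?_⟩
  · rw [X.presheaf.germ_res_apply]; exact hτm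
  all_goals
    refine TopCat.Presheaf.section_ext X.sheaf _ _ _ fun y hy => ?_
  · have hy5 : y ∈ V₅ := hy.1
    have hyU₂ : y ∈ U₂ := (h53 hy5).1
    obtain ⟨η, hη, hηy⟩ := Unibranch.exists_isMaxPt_specializes y
    have hηU₁ : η ∈ U₁ := hηy.mem_open U₁.2 hyU₂.1
    have hηB : η ∈ B := hηy.mem_open B.2 hy.2
    have hna : ¬ IsUnit (X.presheaf.germ U y hyU₂.1.1 a) := fun hu =>
      hAB η ((ha η (hU₁ η hηU₁ hη) hη).1 (hηy.mem_open (X.basicOpen a).2 ((X.mem_basicOpen a y _).2 hu))) hηB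
    have hd' := (X.mem_basicOpen (a + b) y hyU₂.1.1).1 (hunit y hyU₂ fun h => hPB (h ▸ hy.2))
    rw [map_add] at hd'
    have hbu : IsUnit (X.presheaf.germ U y hyU₂.1.1 b) :=
      (IsLocalRing.isUnit_or_isUnit_of_isUnit_add hd').resolve_left hna
    have h1 := congrArg (X.presheaf.germ V₅ y hy5) he₅
    simp only [map_mul, X.presheaf.germ_res_apply, germ_resO, map_zero] at h1
    change X.presheaf.germ _ y hy _ = X.presheaf.germ _ y hy _
    simp only [germ_resO, map_zero]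
    exact hbu.mul_left_eq_zero.1 h1
  · have hy5 : y ∈ V₅ := hy.1
    have hyU₂ : y ∈ U₂ := (h53 hy5).1
    obtain ⟨η, hη, hηy⟩ := Unibranch.exists_isMaxPt_specializes y
    have hηU₁ : η ∈ U₁ := hηy.mem_open U₁.2 hyU₂.1
    have hηA : η ∈ A := hηy.mem_open A.2 hy.2
    have hnb : ¬ IsUnit (X.presheaf.germ U y hyU₂.1.1 b) := fun hu =>
      hAB η hηA ((hb η (hU₁ η hηU₁ hη) hη).1 (hηy.mem_open (X.basicOpen b).2 ((X.mem_basicOpen b y _).2 hu)))
    have hd' := (X.mem_basicOpen (a + b) y hyU₂.1.1).1 (hunit y hyU₂ fun h => hPA (h ▸ hy.2))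
    rw [map_add] at hd'
    have hau : IsUnit (X.presheaf.germ U y hyU₂.1.1 a) :=
      (IsLocalRing.isUnit_or_isUnit_of_isUnit_add hd').resolve_right hnb
    have h1 := congrArg (X.presheaf.germ V₄ y (i₅.le hy5)) he₄
    simp only [map_mul, X.presheaf.germ_res_apply, germ_resO] at h1
    change X.presheaf.germ _ y hy _ = X.presheaf.germ _ y hy _
    simp only [germ_resO, map_sub, map_zero]
    rw [sub_eq_zero]
    exact hau.mul_left_injective h1.symm

end Local

variable [AlgebraicGeometry.IsReduced X]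

theorem resO_eq_zero_of_disjoint (A B : X.Opens) (hAB : ∀ y : X, y ∈ A → y ∈ B → False) {W : X.Opens}
    (hW : W ≤ A ⊓ B) (r : Γ(X, W)) : r = 0 :=
  eq_zero_of_maxPt r fun η hη _ => (hAB η (hW hη).1 (hW hη).2).elim

theorem mem_ideal_point_iff {P : X} (hPc : IsClosed ({P} : Set X)) (V : X.affineOpens) (hPV : P ∈ V.1) (t : Γ(X, V.1)) :
    t ∈ (Scheme.IdealSheafData.vanishingIdeal ⟨{P}, hPc⟩).ideal V ↔
      X.presheaf.germ V.1 P hPV t ∈ IsLocalRing.maximalIdeal (X.presheaf.stalk P) := by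
  rw [IsLocalRing.mem_maximalIdeal, mem_nonunits_iff, ← X.mem_basicOpen t P hPV,
    Scheme.IdealSheafData.vanishingIdeal_ideal, PrimeSpectrum.mem_vanishingIdeal]
  rw [WeakAssLib.mem_primeIdealOf V.2 hPV t, not_not]
  constructor
  · intro h
    exact h (V.2.primeIdealOf ⟨P, hPV⟩) (V.2.fromSpec_primeIdealOf ⟨P, hPV⟩)
  · intro h x hx
    have hx' : V.2.fromSpec x = P := hx
    rwa [show x = V.2.primeIdealOf ⟨P, hPV⟩ from
      V.2.fromSpec.isOpenEmbedding.injective (hx'.trans (V.2.fromSpec_primeIdealOf ⟨P, hPV⟩).symm)]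

theorem main [NoetherianSpace X] (hdim : topologicalKrullDim X ≤ 1) {P : X} (hPc : IsClosed ({P} : Set X))
    (hmax : ¬ Unibranch.IsMaxPt P) (hδ : Curv2.deltaInv (X.presheaf.stalk P) = 1)
    (A B : X.Opens) (hAB : ∀ y : X, y ∈ A → y ∈ B → False) (hPA : P ∉ A) (hPB : P ∉ B)
    (hcov : ∀ y : X, y ≠ P → y ∈ A ∨ y ∈ B) (hA : ∃ y, y ∈ A) (hB : ∃ y, y ∈ B) :
    ∃ e : ClSub.idealMod (Scheme.IdealSheafData.vanishingIdeal ⟨{P}, hPc⟩) ⟶
      ClSub.idealMod (Scheme.IdealSheafData.vanishingIdeal ⟨{P}, hPc⟩), e ≫ e = e ∧ e ≠ 0 ∧ e ≠ 𝟙 _ := by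
  classical
  let I := Scheme.IdealSheafData.vanishingIdeal ⟨{P}, hPc⟩
  let ι := ClSub.idealModι I
  let fA := ι ≫ ClSub.unitToPush A.ι
  let fB := ι ≫ ClSub.unitToPush B.ι
  haveI : Mono ι := inferInstanceAs (Mono (ClSub.idealModι I))
  let D : kernel fA ⊞ kernel fB ⟶ ClSub.idealMod I := biprod.desc (kernel.ι fA) (kernel.ι fB)
  have hjoint : ∀ {Z : X.Modules} (c : Z ⟶ ClSub.idealMod I), c ≫ fA = 0 → c ≫ fB = 0 → c = 0 := by
    intro Z c hcA hcB
    refine Scheme.Modules.hom_ext _ _ fun W => ?_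
    ext z
    refine (QC.mono_iff_app_injective ι).1 inferInstance W (Eq.trans ?_ (map_zero (ι.app W).hom).symm)
    refine eq_zero_of_maxPt _ fun η hη hm => ?_
    have hA0 := (ι_app_eq_zero_iff A W (ι.app W (c.app W z))).1 (congrArg (fun f : Z ⟶ _ => f.app W z) hcA)
    have hB0 := (ι_app_eq_zero_iff B W (ι.app W (c.app W z))).1 (congrArg (fun f : Z ⟶ _ => f.app W z) hcB)
    rcases hcov η (fun h => hmax (h ▸ hm)) with h | h
    · rw [← germ_resO (inf_le_left : W ⊓ A ≤ W) η ⟨hη, h⟩]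
      exact (congrArg _ hA0).trans (map_zero _)
    · rw [← germ_resO (inf_le_left : W ⊓ B ≤ W) η ⟨hη, h⟩]
      exact (congrArg _ hB0).trans (map_zero _)
  haveI : Mono D := Preadditive.mono_of_cancel_zero _ fun {Z} a ha => by
    have h1 : (a ≫ biprod.fst) ≫ kernel.ι fA + (a ≫ biprod.snd) ≫ kernel.ι fB = 0 := by
      rw [← ha, show D = biprod.desc (kernel.ι fA) (kernel.ι fB) from rfl, biprod.desc_eq, Preadditive.comp_add, Category.assoc, Category.assoc]
    have h2 : (a ≫ biprod.snd) ≫ kernel.ι fB = 0 := by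
      refine hjoint _ ?_ (by rw [Category.assoc, kernel.condition, comp_zero])
      have := congrArg (· ≫ fA) h1
      simpa using this
    have h3 : (a ≫ biprod.fst) ≫ kernel.ι fA = 0 := by rwa [h2, add_zero] at h1
    apply biprod.hom_ext
    · rw [zero_comp]; exact zero_of_comp_mono _ h3
    · rw [zero_comp]; exact zero_of_comp_mono _ h2
  have hside : ∀ (O : X.Opens) (W : X.Opens) (s : Γ(ClSub.idealMod I, W)),
      resO X (inf_le_left : W ⊓ O ≤ W) (ι.app W s) = 0 →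
      ∃ c, (kernel.ι (ι ≫ ClSub.unitToPush O.ι)).app W c = s := fun O W s h =>
    (mem_range_kerRestr I O W s).2 h
  have hinl : ∀ W c, D.app W ((biprod.inl : kernel fA ⟶ kernel fA ⊞ kernel fB).app W c) = (kernel.ι fA).app W c :=
    fun W c => congrArg (fun f : kernel fA ⟶ _ => f.app W c) (biprod.inl_desc _ _)
  have hinr : ∀ W c, D.app W ((biprod.inr : kernel fB ⟶ kernel fA ⊞ kernel fB).app W c) = (kernel.ι fB).app W c :=
    fun W c => congrArg (fun f : kernel fB ⟶ _ => f.app W c) (biprod.inr_desc _ _)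
  haveI : Epi D := InvGen.epi_of_locally _ fun W s y hy => by
    by_cases hyP : y = P
    · subst hyP
      obtain ⟨U, hU, hyU, hUW⟩ := exists_isAffineOpen_mem_and_subset (U := W) (x := y) hy
      have hsm : X.presheaf.germ U y hyU (ι.app U (res _ hUW s)) ∈ IsLocalRing.maximalIdeal _ :=
        (mem_ideal_point_iff hPc ⟨U, hU⟩ hyU _).1 ((QC.mem_range_idealModι_affine I ⟨U, hU⟩ _).1 ⟨_, rfl⟩)
      obtain ⟨V, hV, hyV, t, htm, htB, htA⟩ := exists_split hdim hPc hmax hδ A B hAB hPA hPB hcov hyU _ hsm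
      obtain ⟨V', hV', hyV', hV'V⟩ := exists_isAffineOpen_mem_and_subset (U := V) (x := y) hyV
      have hle : V' ≤ W := fun z hz => hUW (hV (hV'V hz))
      obtain ⟨τ, hτ⟩ := (QC.mem_range_idealModι_affine I ⟨V', hV'⟩ (resO X hV'V t)).2
        ((mem_ideal_point_iff hPc ⟨V', hV'⟩ hyV' _).2 (by rw [germ_resO]; exact htm))
      have hτ' : ι.app V' τ = resO X hV'V t := hτ
      obtain ⟨cB, hcB⟩ := hside B V' τ (by
        rw [hτ']
        refine eq_zero_of_maxPt _ fun η hη _ => ?_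
        rw [germ_resO, germ_resO, ← germ_resO (inf_le_left : V ⊓ B ≤ V) η ⟨hV'V hη.1, hη.2⟩]
        exact (congrArg _ htB).trans (map_zero _))
      have hsr : ι.app V' (res _ hle s) = resO X (hV'V.trans hV) (ι.app U (res _ hUW s)) := by
        rw [← res_res _ (hV'V.trans hV) hUW s]
        exact (QC.app_res ι (hV'V.trans hV) (res _ hUW s)).symm
      obtain ⟨cA, hcA⟩ := hside A V' (res _ hle s - τ) (by
        rw [map_sub, hτ', hsr]
        refine eq_zero_of_maxPt _ fun η hη _ => ?_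
        have := (congrArg (X.presheaf.germ (V ⊓ A) η ⟨hV'V hη.1, hη.2⟩) htA).trans (map_zero _)
        rw [germ_resO, map_sub, germ_resO] at this
        rw [germ_resO, map_sub, germ_resO, germ_resO]
        exact this)
      refine ⟨V', hle, hyV', (biprod.inl : kernel fA ⟶ _).app V' cA + (biprod.inr : kernel fB ⟶ _).app V' cB, ?_⟩
      rw [map_add, hinl, hinr]
      exact (congrArg₂ (· + ·) hcA hcB).trans (sub_add_cancel _ _)
    · rcases hcov y hyP with h | h
      · obtain ⟨c, hc⟩ := hside B (W ⊓ A) (res _ inf_le_left s)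
          (resO_eq_zero_of_disjoint A B hAB (W := W ⊓ A ⊓ B) (fun z hz => ⟨hz.1.2, hz.2⟩) _)
        exact ⟨W ⊓ A, inf_le_left, ⟨hy, h⟩, (biprod.inr : kernel fB ⟶ _).app _ c, (hinr _ c).trans hc⟩
      · obtain ⟨c, hc⟩ := hside A (W ⊓ B) (res _ inf_le_left s)
          (resO_eq_zero_of_disjoint A B hAB (W := W ⊓ B ⊓ A) (fun z hz => ⟨hz.2, hz.1.2⟩) _)
        exact ⟨W ⊓ B, inf_le_left, ⟨hy, h⟩, (biprod.inl : kernel fA ⟶ _).app _ c, (hinl _ c).trans hc⟩
  haveI : IsIso D := isIso_of_mono_of_epi D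
  let e := inv D ≫ biprod.snd ≫ kernel.ι fB
  have heB : kernel.ι fB ≫ e = kernel.ι fB := by
    rw [show kernel.ι fB ≫ e = (biprod.inr ≫ D) ≫ e from congrArg (· ≫ e) (biprod.inr_desc _ _).symm]
    simp [e]
  have heA : kernel.ι fA ≫ e = 0 := by
    rw [show kernel.ι fA ≫ e = (biprod.inl ≫ D) ≫ e from congrArg (· ≫ e) (biprod.inl_desc _ _).symm]
    simp [e]
  have hne : ∀ (O O' : X.Opens), (∀ y, y ∈ O → y ∈ O' → False) → (∃ y, y ∈ O) → P ∉ O →
      kernel.ι (ι ≫ ClSub.unitToPush O'.ι) ≠ 0 := by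
    rintro O O' hd ⟨y, hy⟩ hPO h0
    obtain ⟨U, hU, hyU, hUO⟩ := exists_isAffineOpen_mem_and_subset (U := O) (x := y) hy
    obtain ⟨τ, hτ⟩ := (QC.mem_range_idealModι_affine I ⟨U, hU⟩ (1 : Γ(X, U))).2 (by
      show (1 : Γ(X, U)) ∈ (Scheme.IdealSheafData.vanishingIdeal ⟨{P}, hPc⟩).ideal ⟨U, hU⟩
      rw [Scheme.IdealSheafData.vanishingIdeal_ideal, PrimeSpectrum.mem_vanishingIdeal]
      intro x hx
      have hx' : hU.fromSpec x = P := hx
      exact (hPO (hUO (hx' ▸ hU.range_fromSpec.le ⟨x, rfl⟩))).elim)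
    obtain ⟨c, hc⟩ := hside O' U τ (resO_eq_zero_of_disjoint O O' hd (W := U ⊓ O') (fun z hz => ⟨hUO hz.1, hz.2⟩) _)
    have : τ = 0 := by rw [← hc, h0]; rfl
    rw [this, map_zero] at hτ
    have h1 := congrArg (X.presheaf.germ U y hyU) hτ
    rw [map_one] at h1
    exact zero_ne_one ((map_zero _).symm.trans h1)
  refine ⟨e, ?_, ?_, ?_⟩
  · calc e ≫ e = inv D ≫ biprod.snd ≫ (kernel.ι fB ≫ e) := by simp only [e, Category.assoc]
      _ = e := by rw [heB]
  · intro h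
    refine hne A B hAB hA hPA ?_
    rw [← heB, h, comp_zero]
  · intro h
    refine hne B A (fun y h1 h2 => hAB y h2 h1) hB hPB ?_
    rw [← heA, h, Category.comp_id]

end Groth.Agent.NodeSplit
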